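import Mathlib

set_option autoImplicit false
set_option linter.style.haveILetI false

namespace Cfsg.Agent.Lib.Helper5.MultSL2

open Polynomial

variable {F : Type*} [Field F] [Fintype F]

/-- `u` and `u + 1` are nonzero squares and `u` is not a primitive cube root of unity -/
def Good (u : F) : Prop :=
  ∃ v w : F, v ≠ 0 ∧ w ≠ 0 ∧ u = v ^ 2 ∧ u + 1 = w ^ 2 ∧ u ^ 2 + u + 1 ≠ 0

theorem exists_good_char_two (h2 : ringChar F = 2) (h8 : 4 < Fintype.card F) : ∃ u : F, Good u := by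
  classical
  let g : F[X] := X * (X + 1) * (X ^ 2 + X + 1)
  have hdeg : g.natDegree = 4 := by
    show (X * (X + 1) * (X ^ 2 + X + 1) : F[X]).natDegree = 4
    compute_degree!
  have hg0 : g ≠ 0 := by
    intro h
    rw [h, natDegree_zero] at hdeg
    omega
  have hex : ∃ u : F, g.eval u ≠ 0 := by
    by_contra hcon
    push Not at hcon
    apply hg0
    apply eq_zero_of_natDegree_lt_card_of_eval_eq_zero g (f := id) Function.injective_id hcon
    rw [hdeg]; exact h8
  obtain ⟨u, hu⟩ := hex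
  have hu' : u * (u + 1) * (u ^ 2 + u + 1) ≠ 0 := by
    simpa [g] using hu
  have hu0 : u ≠ 0 := fun h => hu' (by rw [h]; ring)
  have hu1 : u + 1 ≠ 0 := fun h => hu' (by rw [h]; ring)
  have hu3 : u ^ 2 + u + 1 ≠ 0 := fun h => hu' (by rw [h]; ring)
  obtain ⟨v, hv⟩ := FiniteField.isSquare_of_char_two h2 u
  obtain ⟨w, hw⟩ := FiniteField.isSquare_of_char_two h2 (u + 1)
  refine ⟨u, v, w, ?_, ?_, by rw [hv]; ring, by rw [hw]; ring, hu3⟩
  · rintro rfl; apply hu0; rw [hv]; ring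
  · rintro rfl; apply hu1; rw [hw]; ring

theorem exists_good_odd (h2 : ringChar F ≠ 2) (h13 : 13 < Fintype.card F) : ∃ u : F, Good u := by
  classical
  have two_ne : (2 : F) ≠ 0 := Ring.two_ne_zero h2
  let g : F[X] := X * (X ^ 2 - 1) * (X ^ 2 + 1) *
    ((X ^ 2 - 1) ^ 4 + 4 * X ^ 2 * (X ^ 2 - 1) ^ 2 + 16 * X ^ 4)
  have hdeg : g.natDegree = 13 := by
    show (X * (X ^ 2 - 1) * (X ^ 2 + 1) *
      ((X ^ 2 - 1) ^ 4 + 4 * X ^ 2 * (X ^ 2 - 1) ^ 2 + 16 * X ^ 4) : F[X]).natDegree = 13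
    compute_degree!
  have hg0 : g ≠ 0 := by
    intro h
    rw [h, natDegree_zero] at hdeg
    omega
  have hex : ∃ t : F, g.eval t ≠ 0 := by
    by_contra hcon
    push Not at hcon
    apply hg0
    apply eq_zero_of_natDegree_lt_card_of_eval_eq_zero g (f := id) Function.injective_id hcon
    rw [hdeg]; exact h13
  obtain ⟨t, ht⟩ := hex
  have ht' : t * (t ^ 2 - 1) * (t ^ 2 + 1) *
      ((t ^ 2 - 1) ^ 4 + 4 * t ^ 2 * (t ^ 2 - 1) ^ 2 + 16 * t ^ 4) ≠ 0 := by
    simpa [g] using ht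
  have ht0 : t ≠ 0 := fun h => ht' (by rw [h]; ring)
  have ht1 : t ^ 2 - 1 ≠ 0 := fun h => ht' (by rw [h]; ring)
  have ht2 : t ^ 2 + 1 ≠ 0 := fun h => ht' (by rw [h]; ring)
  have ht3 : (t ^ 2 - 1) ^ 4 + 4 * t ^ 2 * (t ^ 2 - 1) ^ 2 + 16 * t ^ 4 ≠ 0 :=
    fun h => ht' (by rw [h]; ring)
  refine ⟨((t ^ 2 - 1) / (2 * t)) ^ 2, (t ^ 2 - 1) / (2 * t), (t ^ 2 + 1) / (2 * t), ?_, ?_, rfl, ?_, ?_⟩
  · exact div_ne_zero ht1 (mul_ne_zero two_ne ht0)
  · exact div_ne_zero ht2 (mul_ne_zero two_ne ht0)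
  · field_simp
    ring
  · have h16 : (16 : F) ≠ 0 := by
      have : (16 : F) = 2 ^ 4 := by norm_num
      rw [this]; exact pow_ne_zero _ two_ne
    have key : (((t ^ 2 - 1) / (2 * t)) ^ 2) ^ 2 + ((t ^ 2 - 1) / (2 * t)) ^ 2 + 1 =
        ((t ^ 2 - 1) ^ 4 + 4 * t ^ 2 * (t ^ 2 - 1) ^ 2 + 16 * t ^ 4) / (16 * t ^ 4) := by
      field_simp
      ring
    rw [key]
    exact div_ne_zero ht3 (mul_ne_zero h16 (pow_ne_zero _ ht0))

/-- the field dichotomy: prime order, or a good element exists -/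
theorem prime_or_good (h4 : Fintype.card F ≠ 4) (h9 : Fintype.card F ≠ 9) :
    (Fintype.card F).Prime ∨ ∃ u : F, Good u := by
  classical
  by_cases h2 : ringChar F = 2
  · haveI : CharP F 2 := by rw [← h2]; exact ringChar.charP F
    obtain ⟨n, hp, hn⟩ := FiniteField.card F 2
    by_cases h8 : 4 < Fintype.card F
    · exact Or.inr (exists_good_char_two h2 h8)
    · left
      have hn1 : (n : ℕ) = 1 := by
        have hpos := n.pos
        by_contra hne
        have h2n : 2 ≤ (n : ℕ) := by omega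
        have : 2 ^ 2 ≤ 2 ^ (n : ℕ) := Nat.pow_le_pow_right (by norm_num) h2n
        rw [← hn] at this
        omega
      rw [hn, hn1]; norm_num
  · by_cases h13 : 13 < Fintype.card F
    · exact Or.inr (exists_good_odd h2 h13)
    · left
      have hodd : Fintype.card F % 2 = 1 := FiniteField.odd_card_of_char_ne_two h2
      have h1 : 1 < Fintype.card F := Fintype.one_lt_card
      obtain ⟨p, n, hp, hn⟩ : ∃ p n, p.Prime ∧ Fintype.card F = p ^ n := by
        obtain ⟨p, hp⟩ := CharP.exists F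
        haveI := hp
        haveI : Fact p.Prime := ⟨CharP.char_is_prime F p⟩
        obtain ⟨n, hp', hn⟩ := FiniteField.card F p
        exact ⟨p, n, hp', hn⟩
      have hle : Fintype.card F ≤ 13 := by omega
      generalize Fintype.card F = q at *
      interval_cases q <;> first | omega | norm_num
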