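import Mathlib
import Cfsg.Agent.Lib.Helper8.MonomialAut

set_option autoImplicit false
set_option linter.style.haveILetI false
set_option linter.unusedSectionVars false

/-!
The monomial group `(α → Fˣ) ⋊ Perm α` with the composition law of `Cfsg.monomialMap`, and the
automorphism group of a linear code inside it.
-/

namespace Cfsg.Agent.Lib.Helper5.MultSL2

open Cfsg Cfsg.Agent.Lib.Helper8.MonomialAut

/-- monomial transformations `(σ, c)` -/
structure Mon (α : Type*) (F : Type*) [Field F] where
  σ : Equiv.Perm α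
  c : α → Fˣ

namespace Mon

variable {α : Type*} {F : Type*} [Field F]

theorem ext' {a b : Mon α F} (h1 : a.σ = b.σ) (h2 : a.c = b.c) : a = b := by
  cases a; cases b; simp only [mk.injEq]; exact ⟨h1, h2⟩

instance instMul : Mul (Mon α F) := ⟨fun a b => ⟨a.σ * b.σ, fun i => a.c i * b.c (a.σ.symm i)⟩⟩
instance instOne : One (Mon α F) := ⟨⟨1, fun _ => 1⟩⟩
instance instInv : Inv (Mon α F) := ⟨fun a => ⟨a.σ⁻¹, fun i => (a.c (a.σ i))⁻¹⟩⟩

theorem mul_σ (a b : Mon α F) : (a * b).σ = a.σ * b.σ := rfl
theorem mul_c (a b : Mon α F) (i : α) : (a * b).c i = a.c i * b.c (a.σ.symm i) := rfl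
theorem one_σ : (1 : Mon α F).σ = 1 := rfl
theorem one_c (i : α) : (1 : Mon α F).c i = 1 := rfl
theorem inv_σ (a : Mon α F) : (a⁻¹).σ = a.σ⁻¹ := rfl
theorem inv_c (a : Mon α F) (i : α) : (a⁻¹).c i = (a.c (a.σ i))⁻¹ := rfl

instance instGroup : Group (Mon α F) :=
  Group.ofLeftAxioms
    (fun a b c => by
      apply ext'
      · simp only [mul_σ, mul_assoc]
      · funext i
        simp only [mul_c, mul_σ, mul_assoc]
        rfl)
    (fun a => by
      apply ext'
      · simp only [mul_σ, one_σ, one_mul]
      · funext i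
        simp only [mul_c, one_c, one_mul, one_σ]
        rfl)
    (fun a => by
      apply ext'
      · simp only [mul_σ, inv_σ, inv_mul_cancel, one_σ]
      · funext i
        simp only [mul_c, inv_c, inv_σ, one_c]
        have h1 : (a.σ⁻¹ : Equiv.Perm α).symm i = a.σ i := rfl
        rw [h1, inv_mul_cancel])

/-- the permutation part -/
def toPerm : Mon α F →* Equiv.Perm α where
  toFun a := a.σ
  map_one' := rfl
  map_mul' _ _ := rfl

/-- scalar transformations -/
def sc (l : Fˣ) : Mon α F := ⟨1, fun _ => l⟩

theorem sc_comm (l : Fˣ) (a : Mon α F) : sc l * a = a * sc l := by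
  apply ext'
  · simp only [mul_σ, sc, one_mul, mul_one]
  · funext i
    simp only [mul_c, sc]
    exact mul_comm _ _

theorem sc_mul (l m : Fˣ) : (sc l * sc m : Mon α F) = sc (l * m) := by
  apply ext'
  · simp only [mul_σ, sc, one_mul]
  · funext i
    simp only [mul_c, sc]

theorem sc_one : (sc 1 : Mon α F) = 1 := rfl

theorem sc_injective [Nonempty α] : Function.Injective (sc : Fˣ → Mon α F) := by
  intro l m h
  have := congrFun (congrArg Mon.c h) (Classical.arbitrary α)
  exact this

/-- the automorphism group of a code -/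
def autSub (C : Submodule F (α → F)) [Finite ↥C] : Subgroup (Mon α F) where
  carrier := {a | Pres C a.σ a.c}
  mul_mem' := fun {_ _} ha hb => pres_mul ha hb
  one_mem' := pres_one
  inv_mem' := fun {_} ha => pres_inv ha

theorem mem_autSub (C : Submodule F (α → F)) [Finite ↥C] (a : Mon α F) :
    a ∈ autSub C ↔ Pres C a.σ a.c := Iff.rfl

instance instFinite [Finite α] [Finite F] : Finite (Mon α F) := by
  haveI : Finite (Equiv.Perm α) := inferInstance
  haveI : Finite Fˣ := inferInstance
  apply Finite.of_injective (fun a : Mon α F => (a.σ, a.c))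
  intro a b h
  have h1 := congrArg Prod.fst h
  have h2 := congrArg Prod.snd h
  exact ext' h1 h2

end Mon

end Cfsg.Agent.Lib.Helper5.MultSL2
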