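import Mathlib
import Cfsg.Agent.Lib.Helper5.MultSL2.Mon
import Cfsg.Agent.S1611

set_option autoImplicit false
set_option linter.style.haveILetI false
set_option linter.unusedSectionVars false

/-!
The triple cover `3·A₆` as the group of monomial automorphisms of the hexacode.
-/

namespace Cfsg.Agent.Lib.Helper5.MultSL2

open Cfsg Cfsg.Agent.Lib.Helper8.MonomialAut Cfsg.Agent.Lib.Helper8.Hexacode Cfsg.Agent.S1611
open Cfsg.Agent.Lib.Helper8.Hexacode.F4
open scoped commutatorElement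

instance Mon.instDecEq : DecidableEq (Mon (Fin 6) F4) := fun a b =>
  decidable_of_iff (a.σ = b.σ ∧ a.c = b.c)
    ⟨fun h => Mon.ext' h.1 h.2, fun h => ⟨congrArg Mon.σ h, congrArg Mon.c h⟩⟩

/-- the monomial automorphism group of the hexacode: `3·A₆` -/
noncomputable abbrev E6 : Subgroup (Mon (Fin 6) F4) := Mon.autSub C4

/-- a lift of a `3`-cycle on the first three coordinates -/
def e1 : Mon (Fin 6) F4 := ⟨permOf (ent 2), unitsOf (ent 2)⟩
/-- a lift of a `3`-cycle on the last three coordinates -/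
def e2 : Mon (Fin 6) F4 := ⟨permOf (ent 22), unitsOf (ent 22)⟩

theorem ent_mem (n : ℕ) (hn : n < 24) :
    (⟨permOf (ent n), unitsOf (ent n)⟩ : Mon (Fin 6) F4) ∈ E6 := by
  rw [Mon.mem_autSub]
  refine pres_of_vb _ _ (fun k => ?_)
  rw [mmE_eq _ (D1 n hn), mem_iff_isHex]
  exact D2 n hn k

theorem e1_mem : e1 ∈ E6 := ent_mem 2 (by norm_num)
theorem e2_mem : e2 ∈ E6 := ent_mem 22 (by norm_num)

/-- the scalar `ω` -/
def wU : F4ˣ := Units.mk0 w (by decide)

theorem wU_pow_three : wU ^ 3 = 1 := by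
  apply Units.ext
  rw [Units.val_pow_eq_pow_val]
  decide

theorem wU_ne_one : wU ≠ 1 := by
  intro h
  have := congrArg Units.val h
  revert this
  decide

set_option maxRecDepth 100000 in
theorem comm_e1_e2 : ⁅e1, e2⁆ = Mon.sc wU := by decide +kernel

/-- the projection to `A₆` -/
noncomputable def piE : E6 →* alternatingGroup (Fin 6) :=
  MonoidHom.codRestrict (Mon.toPerm.comp E6.subtype) (alternatingGroup (Fin 6)) (fun a => by
    have h : a.1.σ ∈ P4 := ⟨a.1.c, a.2⟩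
    rw [P4_eq] at h
    exact h)

theorem piE_val (a : E6) : ((piE a : alternatingGroup (Fin 6)) : Equiv.Perm (Fin 6)) = a.1.σ := rfl

theorem piE_surjective : Function.Surjective piE := by
  intro τ
  have h : τ.1 ∈ P4 := by rw [P4_eq]; exact τ.2
  obtain ⟨c, hc⟩ := h
  exact ⟨⟨⟨τ.1, c⟩, hc⟩, Subtype.ext rfl⟩

theorem piE_ker (a : E6) (ha : piE a = 1) : ∃ l : F4ˣ, a.1 = Mon.sc l := by
  have h1 : a.1.σ = 1 := congrArg Subtype.val ha
  have h2 : Pres C4 1 a.1.c := by rw [← h1]; exact a.2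
  exact ⟨a.1.c 0, Mon.ext' h1 (funext fun i => diag4 _ h2 i 0)⟩

theorem sc_wU_mem : (Mon.sc wU : Mon (Fin 6) F4) ∈ E6 := by
  rw [← comm_e1_e2, commutatorElement_def]
  exact E6.mul_mem (E6.mul_mem (E6.mul_mem e1_mem e2_mem) (E6.inv_mem e1_mem)) (E6.inv_mem e2_mem)

/-- the central element of order three of `3·A₆` -/
noncomputable def z0 : E6 := ⟨Mon.sc wU, sc_wU_mem⟩

theorem z0_comm : ⁅(⟨e1, e1_mem⟩ : E6), ⟨e2, e2_mem⟩⁆ = z0 := by
  apply Subtype.ext
  exact comm_e1_e2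

theorem z0_pow_three : z0 ^ 3 = 1 := by
  apply Subtype.ext
  show (Mon.sc wU : Mon (Fin 6) F4) ^ 3 = 1
  rw [pow_succ, pow_two, Mon.sc_mul, Mon.sc_mul, ← pow_two, ← pow_succ, wU_pow_three, Mon.sc_one]

theorem z0_ne_one : z0 ≠ 1 := by
  intro h
  have h1 : (Mon.sc wU : Mon (Fin 6) F4) = Mon.sc 1 := congrArg Subtype.val h
  exact wU_ne_one (Mon.sc_injective h1)

theorem z0_mem_ker : z0 ∈ piE.ker := by
  rw [MonoidHom.mem_ker]
  apply Subtype.ext
  rfl

theorem z0_central (a : E6) : z0 * a = a * z0 := by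
  apply Subtype.ext
  exact Mon.sc_comm wU a.1

theorem units_F4 : ∀ l : F4ˣ, l = 1 ∨ l = wU ∨ l = wU ^ 2 := by decide

theorem ker_piE_le (a : E6) (ha : a ∈ piE.ker) : a ∈ Subgroup.zpowers z0 := by
  obtain ⟨l, hl⟩ := piE_ker a (MonoidHom.mem_ker.1 ha)
  rcases units_F4 l with rfl | rfl | rfl
  · have : a = 1 := Subtype.ext hl
    rw [this]; exact one_mem _
  · have : a = z0 := Subtype.ext hl
    rw [this]; exact Subgroup.mem_zpowers _
  · have : a = z0 ^ 2 := by
      apply Subtype.ext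
      rw [hl]
      show (Mon.sc (wU ^ 2) : Mon (Fin 6) F4) = Mon.sc wU ^ 2
      rw [pow_two, pow_two, Mon.sc_mul]
    rw [this]; exact pow_mem (Subgroup.mem_zpowers _) 2

theorem ker_piE_le_center : piE.ker ≤ Subgroup.center E6 := by
  intro a ha
  obtain ⟨n, rfl⟩ := Subgroup.mem_zpowers_iff.1 (ker_piE_le a ha)
  apply zpow_mem
  rw [Subgroup.mem_center_iff]
  intro g
  exact (z0_central g).symm

instance : Finite E6 := inferInstance

end Cfsg.Agent.Lib.Helper5.MultSL2
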