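import Mathlib
import Cfsg.Agent.Lib.Helper5.MultSL2.Field

set_option autoImplicit false
set_option linter.style.haveILetI false
set_option linter.unusedSectionVars false

namespace Cfsg.Agent.Lib.Helper5.MultSL2

variable {F : Type*} [Field F] [Fintype F] {A : Type*} [CommGroup A]

section
variable (β : F → F → A)
  (hl : ∀ a a' b, β (a + a') b = β a b * β a' b)
  (hr : ∀ a b b', β a (b + b') = β a b * β a b')

include hl in
theorem pair_zero_left (b : F) : β 0 b = 1 := by
  have h := hl 0 0 b
  rw [add_zero] at h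
  exact (mul_eq_left (a := β 0 b)).1 h.symm

include hr in
theorem pair_zero_right (a : F) : β a 0 = 1 := by
  have h := hr a 0 0
  rw [add_zero] at h
  exact (mul_eq_left (a := β a 0)).1 h.symm

include hr in
theorem pair_sub_right (a b b' : F) : β a (b - b') = β a b * (β a b')⁻¹ := by
  have h := hr a (b - b') b'
  rw [sub_add_cancel] at h
  rw [h, mul_inv_cancel_right]

include hl hr in
/-- a good element kills every invariant pairing -/
theorem pairing_trivial_of_good
    (hinv : ∀ t : F, t ≠ 0 → ∀ a b, β (t ^ 2 * a) (t ^ 2 * b) = β a b)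
    (u : F) (hu : Good u) (a b : F) : β a b = 1 := by
  obtain ⟨v, w, hv, hw, huv, huw, hu3⟩ := hu
  have hu0 : u ≠ 0 := by rw [huv]; exact pow_ne_zero _ hv
  have hu1 : u + 1 ≠ 0 := by rw [huw]; exact pow_ne_zero _ hw
  -- moving a square across
  have hmove : ∀ t : F, t ≠ 0 → ∀ a b, β (t ^ 2 * a) b = β a ((t ^ 2)⁻¹ * b) := by
    intro t ht a b
    have h := hinv t ht a ((t ^ 2)⁻¹ * b)
    rw [← h, mul_inv_cancel_left₀ (pow_ne_zero _ ht)]
  have h1 : ∀ a b, β ((u + 1) * a) b = β a ((u + 1)⁻¹ * b) := by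
    intro a b
    rw [huw]; exact hmove w hw a b
  have h2 : ∀ a b, β ((u + 1) * a) b = β a ((u⁻¹ + 1) * b) := by
    intro a b
    rw [add_mul, one_mul, hl, add_mul, one_mul, hr]
    congr 1
    rw [huv]; exact hmove v hv a b
  set y : F := (u + 1)⁻¹ - (u⁻¹ + 1) with hy
  have hy0 : y ≠ 0 := by
    have : y = -(u ^ 2 + u + 1) / (u * (u + 1)) := by
      rw [hy]; field_simp; ring
    rw [this]
    exact div_ne_zero (neg_ne_zero.2 hu3) (mul_ne_zero hu0 hu1)
  have h3 : ∀ a b, β a (y * b) = 1 := by
    intro a b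
    rw [hy, sub_mul, pair_sub_right β hr, ← h1, ← h2, mul_inv_cancel]
  have := h3 a (y⁻¹ * b)
  rwa [mul_inv_cancel_left₀ hy0] at this

include hl hr in
/-- alternating pairings on a prime field are trivial -/
theorem pairing_trivial_of_prime (halt : ∀ a, β a a = 1) (hp : (Fintype.card F).Prime)
    (a b : F) : β a b = 1 := by
  haveI : Fact (Fintype.card F).Prime := ⟨hp⟩
  have hcard : Nat.card F = Fintype.card F := Nat.card_eq_fintype_card
  have htop : AddSubgroup.zmultiples (1 : F) = ⊤ :=
    zmultiples_eq_top_of_prime_card hcard one_ne_zero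
  have hmem : ∀ x : F, ∃ n : ℤ, n • (1 : F) = x := by
    intro x
    have : x ∈ AddSubgroup.zmultiples (1 : F) := by rw [htop]; trivial
    exact AddSubgroup.mem_zmultiples_iff.1 this
  let φ : F → F →+ Additive A := fun b =>
    AddMonoidHom.mk' (fun a => Additive.ofMul (β a b)) (fun a a' => by
      show Additive.ofMul (β (a + a') b) = Additive.ofMul (β a b) + Additive.ofMul (β a' b)
      rw [hl]; rfl)
  let ψ : F → F →+ Additive A := fun a =>
    AddMonoidHom.mk' (fun b => Additive.ofMul (β a b)) (fun b b' => by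
      show Additive.ofMul (β a (b + b')) = Additive.ofMul (β a b) + Additive.ofMul (β a b')
      rw [hr]; rfl)
  have h1 : ∀ b, β 1 b = 1 := by
    intro b
    obtain ⟨n, rfl⟩ := hmem b
    have : ψ 1 (n • (1 : F)) = n • ψ 1 1 := map_zsmul _ _ _
    have h11 : ψ 1 (1 : F) = 0 := by
      show Additive.ofMul (β 1 1) = 0
      rw [halt]; rfl
    rw [h11, smul_zero] at this
    exact this
  obtain ⟨n, rfl⟩ := hmem a
  have : φ b (n • (1 : F)) = n • φ b 1 := map_zsmul _ _ _
  have h11 : φ b (1 : F) = 0 := by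
    show Additive.ofMul (β 1 b) = 0
    rw [h1]; rfl
  rw [h11, smul_zero] at this
  exact this

include hl hr in
/-- **the pairing lemma**: an alternating biadditive pairing on a finite field of order `≠ 4, 9` that is
invariant under multiplication by nonzero squares is trivial -/
theorem pairing_trivial (halt : ∀ a, β a a = 1)
    (hinv : ∀ t : F, t ≠ 0 → ∀ a b, β (t ^ 2 * a) (t ^ 2 * b) = β a b)
    (h4 : Fintype.card F ≠ 4) (h9 : Fintype.card F ≠ 9) (a b : F) : β a b = 1 := by
  rcases prime_or_good (F := F) h4 h9 with hp | ⟨u, hu⟩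
  · exact pairing_trivial_of_prime β hl hr halt hp a b
  · exact pairing_trivial_of_good β hl hr hinv u hu a b

end

end Cfsg.Agent.Lib.Helper5.MultSL2
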