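import Mathlib
import Cfsg.Agent.Lib.Helper5.MultSL2.Pairing
import Cfsg.Agent.H1.SchurSub
import Cfsg.Agent.H1.StemMeta
import Cfsg.Agent.H9.MultPSL32
import Cfsg.Agent.S0261
import Cfsg.Agent.S0262
import Cfsg.Agent.S3963

set_option autoImplicit false
set_option linter.style.haveILetI false
set_option linter.unusedSectionVars false

namespace Cfsg.Agent.Lib.Helper5.MultSL2

open Cfsg Cfsg.Agent.H1 Matrix
open scoped commutatorElement

section central

variable {Γ : Type*} {G : Type*} [Group Γ] [Group G] (σ : Γ →* G)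

theorem comm_mul_central_left {g h z : Γ} (hz : z ∈ Subgroup.center Γ) : ⁅g * z, h⁆ = ⁅g, h⁆ := by
  have hzh : z * h = h * z := (Subgroup.mem_center_iff.1 hz h).symm
  rw [commutatorElement_def, commutatorElement_def]
  calc g * z * h * (g * z)⁻¹ * h⁻¹ = g * (z * h) * z⁻¹ * g⁻¹ * h⁻¹ := by group
    _ = g * (h * z) * z⁻¹ * g⁻¹ * h⁻¹ := by rw [hzh]
    _ = g * h * g⁻¹ * h⁻¹ := by group

theorem comm_mul_central_right {g h z : Γ} (hz : z ∈ Subgroup.center Γ) : ⁅g, h * z⁆ = ⁅g, h⁆ := by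
  have hzg : z * g⁻¹ = g⁻¹ * z := (Subgroup.mem_center_iff.1 hz g⁻¹).symm
  rw [commutatorElement_def, commutatorElement_def]
  calc g * (h * z) * g⁻¹ * (h * z)⁻¹ = g * h * (z * g⁻¹) * z⁻¹ * h⁻¹ := by group
    _ = g * h * (g⁻¹ * z) * z⁻¹ * h⁻¹ := by rw [hzg]
    _ = g * h * g⁻¹ * h⁻¹ := by group

include σ in
theorem comm_congr (hcen : σ.ker ≤ Subgroup.center Γ) {g g' h h' : Γ} (hg : σ g = σ g')
    (hh : σ h = σ h') : ⁅g, h⁆ = ⁅g', h'⁆ := by
  have hz : g⁻¹ * g' ∈ Subgroup.center Γ := hcen (by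
    rw [MonoidHom.mem_ker, map_mul, map_inv, hg, inv_mul_cancel])
  have hw : h⁻¹ * h' ∈ Subgroup.center Γ := hcen (by
    rw [MonoidHom.mem_ker, map_mul, map_inv, hh, inv_mul_cancel])
  have e1 : g' = g * (g⁻¹ * g') := by group
  have e2 : h' = h * (h⁻¹ * h') := by group
  rw [e1, e2, comm_mul_central_left hz, comm_mul_central_right hw]

include σ in
theorem comm_mem_center (hcen : σ.ker ≤ Subgroup.center Γ) {g h : Γ}
    (hc : σ g * σ h = σ h * σ g) : ⁅g, h⁆ ∈ Subgroup.center Γ := by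
  apply hcen
  rw [MonoidHom.mem_ker, map_commutatorElement, commutatorElement_eq_one_iff_commute]
  exact hc

theorem comm_mul_left {g g' h : Γ} (hc : ⁅g', h⁆ ∈ Subgroup.center Γ) :
    ⁅g * g', h⁆ = ⁅g', h⁆ * ⁅g, h⁆ := by
  have h1 : ⁅g', h⁆ * g = g * ⁅g', h⁆ := (Subgroup.mem_center_iff.1 hc g).symm
  calc ⁅g * g', h⁆ = g * ⁅g', h⁆ * h * g⁻¹ * h⁻¹ := by
        rw [commutatorElement_def, commutatorElement_def]; group
    _ = ⁅g', h⁆ * g * h * g⁻¹ * h⁻¹ := by rw [h1]
    _ = ⁅g', h⁆ * ⁅g, h⁆ := by rw [commutatorElement_def g h]; group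

theorem comm_mul_right {g h h' : Γ} (hc : ⁅g, h'⁆ ∈ Subgroup.center Γ) :
    ⁅g, h * h'⁆ = ⁅g, h⁆ * ⁅g, h'⁆ := by
  have h1 : ⁅g, h'⁆ * h⁻¹ = h⁻¹ * ⁅g, h'⁆ := (Subgroup.mem_center_iff.1 hc h⁻¹).symm
  calc ⁅g, h * h'⁆ = g * h * g⁻¹ * (⁅g, h'⁆ * h⁻¹) := by
        rw [commutatorElement_def, commutatorElement_def]; group
    _ = g * h * g⁻¹ * (h⁻¹ * ⁅g, h'⁆) := by rw [h1]
    _ = ⁅g, h⁆ * ⁅g, h'⁆ := by rw [commutatorElement_def g h]; group

theorem conj_comm (k g h : Γ) : k * ⁅g, h⁆ * k⁻¹ = ⁅k * g * k⁻¹, k * h * k⁻¹⁆ := by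
  rw [commutatorElement_def, commutatorElement_def]; group

/-- transfer into a commutative subgroup: central elements of the commutator subgroup have order dividing
the index -/
theorem pow_index_eq_one_of_commutative [Finite Γ] (H : Subgroup Γ)
    (hH : ∀ x ∈ H, ∀ y ∈ H, x * y = y * x) (a : Γ) (hac : a ∈ Subgroup.center Γ)
    (had : a ∈ commutator Γ) : a ^ H.index = 1 := by
  classical
  letI : CommGroup H := { (inferInstance : Group H) with
    mul_comm := fun x y => Subtype.ext (hH x x.2 y y.2) }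
  have key : ∀ (k : ℕ) (g₀ : Γ), g₀⁻¹ * a ^ k * g₀ ∈ H → g₀⁻¹ * a ^ k * g₀ = a ^ k := by
    intro k g₀ _
    have := Subgroup.mem_center_iff.1 (pow_mem hac k) g₀
    rw [mul_assoc, ← this, inv_mul_cancel_left]
  have h2 := MonoidHom.transfer_eq_pow (MonoidHom.id H) a key
  have h3 : MonoidHom.transfer (MonoidHom.id H) a = 1 := by
    have h4 : a ∈ (MonoidHom.transfer (MonoidHom.id H)).ker :=
      Abelianization.commutator_subset_ker _ had
    exact MonoidHom.mem_ker.1 h4
  rw [h3] at h2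
  have h5 := congrArg (fun x : H => (x : Γ)) h2
  exact h5.symm

end central

section sl2

variable {F : Type*} [Field F]

/-- upper unitriangular matrices -/
def xel (a : F) : Matrix.SpecialLinearGroup (Fin 2) F :=
  ⟨!![1, a; 0, 1], by rw [Matrix.det_fin_two_of]; simp⟩

theorem xel_add (a b : F) : xel (a + b) = xel a * xel b := by
  apply Subtype.ext
  change (!![1, a + b; 0, 1] : Matrix (Fin 2) (Fin 2) F) = !![1, a; 0, 1] * !![1, b; 0, 1]
  rw [Matrix.mul_fin_two]
  simp [add_comm]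

theorem xel_injective : Function.Injective (xel (F := F)) := by
  intro a b hab
  have h1 : ((xel a).1 0 1 : F) = (xel b).1 0 1 := by rw [hab]
  exact h1

theorem xel_comm (a b : F) : xel a * xel b = xel b * xel a := by
  rw [← xel_add, ← xel_add, add_comm]

/-- the unipotent subgroup -/
def xhom : Multiplicative F →* Matrix.SpecialLinearGroup (Fin 2) F where
  toFun a := xel (Multiplicative.toAdd a)
  map_one' := by
    apply Subtype.ext
    change (!![1, 0; 0, 1] : Matrix (Fin 2) (Fin 2) F) = 1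
    exact Matrix.one_fin_two.symm
  map_mul' a b := xel_add _ _

theorem torus_conj (t : Fˣ) (a : F) :
    Cfsg.Agent.S0262.torus t * xel a * (Cfsg.Agent.S0262.torus t)⁻¹ = xel ((t : F) ^ 2 * a) := by
  rw [mul_inv_eq_iff_eq_mul]
  apply Subtype.ext
  change (!![(t : F), 0; 0, ((t⁻¹ : Fˣ) : F)] : Matrix (Fin 2) (Fin 2) F) * !![1, a; 0, 1] =
    !![1, (t : F) ^ 2 * a; 0, 1] * !![(t : F), 0; 0, ((t⁻¹ : Fˣ) : F)]
  rw [Matrix.mul_fin_two, Matrix.mul_fin_two]
  have ht : (t : F) ≠ 0 := t.ne_zero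
  simp only [Units.val_inv_eq_inv_val]
  congr 1
  ext i j
  fin_cases i <;> fin_cases j <;> simp <;> field_simp

end sl2

section main

variable {F : Type*} [Field F] [Fintype F]

/-- `p`-part: kernel elements of a stem extension of `SL₂(q)` are killed by `(q-1)(q+1)` -/
theorem pow_eq_one_of_stem (h4 : Fintype.card F ≠ 4) (h9 : Fintype.card F ≠ 9)
    {Γ : Type*} [Group Γ] [Finite Γ] (σ : Γ →* Matrix.SpecialLinearGroup (Fin 2) F)
    (hσ : IsStemExtension σ) (a : Γ) (ha : a ∈ σ.ker) :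
    a ^ ((Fintype.card F - 1) * (Fintype.card F + 1)) = 1 := by
  classical
  obtain ⟨hsurj, hcen, hder⟩ := hσ
  let s : Matrix.SpecialLinearGroup (Fin 2) F → Γ := Function.surjInv hsurj
  have hs : ∀ x, σ (s x) = x := Function.surjInv_eq hsurj
  have hcc : ∀ a b : F, ⁅s (xel a), s (xel b)⁆ ∈ Subgroup.center Γ := by
    intro a b
    apply comm_mem_center σ hcen
    rw [hs, hs]; exact xel_comm a b
  letI : CommGroup (Subgroup.center Γ) := { (inferInstance : Group (Subgroup.center Γ)) with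
    mul_comm := fun x y => Subtype.ext ((Subgroup.mem_center_iff.1 x.2 y.1).symm) }
  let β : F → F → Subgroup.center Γ := fun a b => ⟨⁅s (xel a), s (xel b)⁆, hcc a b⟩
  have hl : ∀ a a' b, β (a + a') b = β a b * β a' b := by
    intro a a' b
    apply Subtype.ext
    show ⁅s (xel (a + a')), s (xel b)⁆ = ⁅s (xel a), s (xel b)⁆ * ⁅s (xel a'), s (xel b)⁆
    have h1 : ⁅s (xel (a + a')), s (xel b)⁆ = ⁅s (xel a') * s (xel a), s (xel b)⁆ := by
      apply comm_congr σ hcen
      · rw [map_mul, hs, hs, hs, ← xel_add, add_comm]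
      · rfl
    rw [h1, comm_mul_left (hcc a b)]
  have hr : ∀ a b b', β a (b + b') = β a b * β a b' := by
    intro a b b'
    apply Subtype.ext
    show ⁅s (xel a), s (xel (b + b'))⁆ = ⁅s (xel a), s (xel b)⁆ * ⁅s (xel a), s (xel b')⁆
    have h1 : ⁅s (xel a), s (xel (b + b'))⁆ = ⁅s (xel a), s (xel b) * s (xel b')⁆ := by
      apply comm_congr σ hcen
      · rfl
      · rw [map_mul, hs, hs, hs, ← xel_add]
    rw [h1, comm_mul_right (hcc a b')]
  have halt : ∀ a, β a a = 1 := by
    intro a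
    apply Subtype.ext
    show ⁅s (xel a), s (xel a)⁆ = 1
    exact commutatorElement_self _
  have hinv : ∀ t : F, t ≠ 0 → ∀ a b, β (t ^ 2 * a) (t ^ 2 * b) = β a b := by
    intro t ht a b
    apply Subtype.ext
    show ⁅s (xel (t ^ 2 * a)), s (xel (t ^ 2 * b))⁆ = ⁅s (xel a), s (xel b)⁆
    let k : Γ := s (Cfsg.Agent.S0262.torus (Units.mk0 t ht))
    have h1 : ⁅s (xel (t ^ 2 * a)), s (xel (t ^ 2 * b))⁆ =
        ⁅k * s (xel a) * k⁻¹, k * s (xel b) * k⁻¹⁆ := by
      apply comm_congr σ hcen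
      · rw [map_mul, map_mul, map_inv, hs, hs, hs, torus_conj]; rfl
      · rw [map_mul, map_mul, map_inv, hs, hs, hs, torus_conj]; rfl
    rw [h1, ← conj_comm]
    have h2 := Subgroup.mem_center_iff.1 (hcc a b) k
    rw [h2, mul_inv_cancel_right]
  have htriv : ∀ a b, β a b = 1 := pairing_trivial β hl hr halt hinv h4 h9
  have htriv' : ∀ a b : F, ⁅s (xel a), s (xel b)⁆ = 1 := fun a b =>
    congrArg Subtype.val (htriv a b)
  -- the abelian subgroup
  let U₀ : Subgroup (Matrix.SpecialLinearGroup (Fin 2) F) := (xhom (F := F)).range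
  let H : Subgroup Γ := U₀.comap σ
  have hH : ∀ x ∈ H, ∀ y ∈ H, x * y = y * x := by
    intro x hx y hy
    obtain ⟨a', ha'⟩ := hx
    obtain ⟨b', hb'⟩ := hy
    have h1 : ⁅x, y⁆ = ⁅s (xel (Multiplicative.toAdd a')), s (xel (Multiplicative.toAdd b'))⁆ := by
      apply comm_congr σ hcen
      · rw [hs]; exact ha'.symm
      · rw [hs]; exact hb'.symm
    rw [htriv'] at h1
    exact (commutatorElement_eq_one_iff_mul_comm.1 h1)
  have hidx : H.index = (Fintype.card F - 1) * (Fintype.card F + 1) := by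
    have h1 : H.index = U₀.index := Subgroup.index_comap_of_surjective U₀ hsurj
    rw [h1]
    have h2 : Nat.card U₀ = Fintype.card F := by
      have : Nat.card U₀ = Nat.card (Multiplicative F) := by
        apply Nat.card_congr
        exact (Equiv.ofInjective (xhom (F := F)) (fun a b hab => by
          have := xel_injective (F := F) hab
          exact this)).symm
      rw [this, ← Nat.card_eq_fintype_card]
      exact Nat.card_congr Multiplicative.toAdd
    have h3 := U₀.card_mul_index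
    rw [h2, Cfsg.Agent.S0262.card_sl_two, mul_assoc] at h3
    exact Nat.eq_of_mul_eq_mul_left Fintype.card_pos h3
  have := pow_index_eq_one_of_commutative H hH a (hcen ha) (hder ha)
  rwa [hidx] at this

/-- **SL₂(q)**, `q ≠ 4, 9`: every finite stem extension is an isomorphism -/
theorem ker_eq_bot_of_stem (h4 : Fintype.card F ≠ 4) (h9 : Fintype.card F ≠ 9)
    {Γ : Type*} [Group Γ] [Finite Γ] (σ : Γ →* Matrix.SpecialLinearGroup (Fin 2) F)
    (hσ : IsStemExtension σ) : σ.ker = ⊥ := by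
  classical
  rw [eq_bot_iff]
  intro a ha
  rw [Subgroup.mem_bot]
  by_contra hne
  have ho : orderOf a ≠ 1 := fun h => hne (orderOf_eq_one_iff.1 h)
  obtain ⟨r, hr, hra⟩ := Nat.exists_prime_and_dvd ho
  haveI : Fact r.Prime := ⟨hr⟩
  obtain ⟨p, hpc⟩ := CharP.exists F
  haveI := hpc
  haveI : Fact p.Prime := ⟨CharP.char_is_prime F p⟩
  obtain ⟨n, hp, hn⟩ := FiniteField.card F p
  by_cases hrp : r = p
  · subst hrp
    have h1 := pow_eq_one_of_stem h4 h9 σ hσ a ha
    have h2 : r ∣ (Fintype.card F - 1) * (Fintype.card F + 1) :=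
      hra.trans (orderOf_dvd_of_pow_eq_one h1)
    have hq : r ∣ Fintype.card F := by
      rw [hn]; exact dvd_pow_self r n.ne_zero
    have hq1 : 1 ≤ Fintype.card F := Fintype.card_pos
    have h3 : (Fintype.card F - 1) * (Fintype.card F + 1) + 1 = Fintype.card F * Fintype.card F := by
      obtain ⟨m, hm⟩ : ∃ m, Fintype.card F = m + 1 := ⟨Fintype.card F - 1, by omega⟩
      rw [hm]; simp; ring
    have h4' : r ∣ 1 := by
      have h5 : r ∣ (Fintype.card F - 1) * (Fintype.card F + 1) + 1 := by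
        rw [h3]; exact dvd_mul_of_dvd_left hq _
      exact (Nat.dvd_add_right h2).1 h5
    exact hr.one_lt.ne' (Nat.dvd_one.1 h4')
  · let R : Sylow r (Matrix.SpecialLinearGroup (Fin 2) F) := default
    obtain ⟨hh, hhk⟩ := exists_injective_pow_to_mult (R : Subgroup _) σ hσ
    have htr : ∀ x : fcMult (R : Subgroup (Matrix.SpecialLinearGroup (Fin 2) F)), x = 1 := by
      by_cases hr2 : r = 2
      · subst hr2
        have hodd : Odd (Fintype.card F) := by
          rw [hn]
          apply Odd.pow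
          exact hp.odd_of_ne_two (fun h => hrp h.symm)
        obtain ⟨k, hk, ⟨e⟩⟩ := Cfsg.Agent.S0261.result hodd R
        haveI : NeZero (2 ^ k) := ⟨pow_ne_zero _ (by norm_num)⟩
        have hle := Cfsg.Agent.H9.MultPSL32.card_fcMult_le_of_mulEquiv e
        obtain ⟨e'⟩ := mult_equiv_of_hasSchurMultiplier (Cfsg.Agent.S3963.result (2 ^ k))
        have hc1 : Nat.card (fcMult (QuaternionGroup (2 ^ k))) = 1 := by
          rw [← Nat.card_congr e'.toEquiv]
          simp
        rw [hc1] at hle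
        haveI : Finite (fcMult (R : Subgroup (Matrix.SpecialLinearGroup (Fin 2) F))) :=
          fcMult_finite _
        have hc2 : Nat.card (fcMult (R : Subgroup (Matrix.SpecialLinearGroup (Fin 2) F))) = 1 :=
          le_antisymm hle Nat.card_pos
        intro x
        haveI := (Nat.card_eq_one_iff_unique.1 hc2).1
        exact Subsingleton.elim _ _
      · haveI : IsCyclic (R : Subgroup (Matrix.SpecialLinearGroup (Fin 2) F)) :=
          Cfsg.Agent.S0262.result p r hr2 hrp R
        intro x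
        exact Cfsg.Agent.H9.MultPSL32.fcMult_eq_one_of_isCyclic x
    have h1 : a ^ (R : Subgroup (Matrix.SpecialLinearGroup (Fin 2) F)).index = 1 :=
      (hhk ⟨a, ha⟩).1 (htr _)
    have h2 : r ∣ (R : Subgroup (Matrix.SpecialLinearGroup (Fin 2) F)).index :=
      hra.trans (orderOf_dvd_of_pow_eq_one h1)
    exact R.not_dvd_index h2

end main

end Cfsg.Agent.Lib.Helper5.MultSL2
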