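import Mathlib
import Cfsg.Agent.Lib.Helper5.MultSL2.Main

set_option autoImplicit false
set_option linter.style.haveILetI false
set_option linter.unusedSectionVars false

/-!
Upper bound for the multiplier of `SL₂(9)`: kernels of finite stem extensions have order at most 3.
-/

namespace Cfsg.Agent.Lib.Helper5.MultSL2

open Cfsg Cfsg.Agent.H1 Matrix
open scoped commutatorElement

section pairing9

variable {F : Type*} [Field F] [Fintype F] {A : Type*} [CommGroup A]

/-- alternating pairings on the field of nine elements take values in a cyclic group of order dividing 3 -/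
theorem pairing_cyclic (β : F → F → A)
    (hl : ∀ a a' b, β (a + a') b = β a b * β a' b)
    (hr : ∀ a b b', β a (b + b') = β a b * β a b')
    (halt : ∀ a, β a a = 1) (h9 : Fintype.card F = 9) :
    ∃ c : A, c ^ 3 = 1 ∧ ∀ a b, β a b ∈ Subgroup.zpowers c := by
  classical
  -- characteristic three
  obtain ⟨p, hpc⟩ := CharP.exists F
  haveI := hpc
  haveI : Fact p.Prime := ⟨CharP.char_is_prime F p⟩
  obtain ⟨n, hp, hn⟩ := FiniteField.card F p
  have hp3 : p = 3 := by
    have h1 : p ∣ 3 ^ 2 := by
      have : p ∣ p ^ (n : ℕ) := dvd_pow_self p n.ne_zero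
      rw [← hn, h9] at this
      exact this
    have h2 : p ∣ 3 := hp.dvd_of_dvd_pow h1
    exact (Nat.prime_dvd_prime_iff_eq hp (by norm_num)).1 h2
  subst hp3
  have h3 : (3 : F) = 0 := by
    have := CharP.cast_eq_zero F 3
    exact_mod_cast this
  -- the additive homs
  let φ : F → F →+ Additive A := fun b =>
    AddMonoidHom.mk' (fun a => Additive.ofMul (β a b)) (fun a a' => by
      show Additive.ofMul (β (a + a') b) = Additive.ofMul (β a b) + Additive.ofMul (β a' b)
      rw [hl]; rfl)
  let ψ : F → F →+ Additive A := fun a =>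
    AddMonoidHom.mk' (fun b => Additive.ofMul (β a b)) (fun b b' => by
      show Additive.ofMul (β a (b + b')) = Additive.ofMul (β a b) + Additive.ofMul (β a b')
      rw [hr]; rfl)
  have hφ : ∀ (m : ℤ) (a b : F), β (m • a) b = β a b ^ m := by
    intro m a b
    have : φ b (m • a) = m • φ b a := map_zsmul _ _ _
    exact this
  have hψ : ∀ (m : ℤ) (a b : F), β a (m • b) = β a b ^ m := by
    intro m a b
    have : ψ a (m • b) = m • ψ a b := map_zsmul _ _ _
    exact this
  -- antisymmetry
  have hanti : ∀ a b, β a b = (β b a)⁻¹ := by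
    intro a b
    have h := halt (a + b)
    rw [hl, hr, hr, halt, halt, one_mul, mul_one] at h
    exact eq_inv_of_mul_eq_one_left h
  -- an element outside the prime field
  have hc1 : Nat.card (AddSubgroup.zmultiples (1 : F)) = 3 := by
    rw [Nat.card_zmultiples]
    have h1 : addOrderOf (1 : F) ∣ 3 := by
      apply addOrderOf_dvd_of_nsmul_eq_zero
      rw [nsmul_eq_mul, mul_one]; exact_mod_cast h3
    rcases (Nat.dvd_prime (by norm_num : Nat.Prime 3)).1 h1 with h | h
    · exfalso
      rw [AddMonoid.addOrderOf_eq_one_iff] at h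
      exact one_ne_zero h
    · exact h
  have hex : ∃ i : F, i ∉ AddSubgroup.zmultiples (1 : F) := by
    by_contra hcon
    push Not at hcon
    have htop : AddSubgroup.zmultiples (1 : F) = ⊤ := by
      rw [eq_top_iff]; intro x _; exact hcon x
    rw [htop, AddSubgroup.card_top, Nat.card_eq_fintype_card, h9] at hc1
    omega
  obtain ⟨i, hi⟩ := hex
  let S : AddSubgroup F := AddSubgroup.zmultiples (1 : F) ⊔ AddSubgroup.zmultiples i
  have hS : S = ⊤ := by
    have hle : AddSubgroup.zmultiples (1 : F) ≤ S := le_sup_left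
    have hd : Nat.card S ∣ 9 := by
      have := AddSubgroup.card_addSubgroup_dvd_card S
      rwa [Nat.card_eq_fintype_card (α := F), h9] at this
    have h3d : 3 ∣ Nat.card S := by
      rw [← hc1]; exact AddSubgroup.card_dvd_of_le hle
    have hne : Nat.card S ≠ 3 := by
      intro h
      have : AddSubgroup.zmultiples (1 : F) = S := by
        apply AddSubgroup.eq_of_le_of_card_ge hle
        rw [h, hc1]
      apply hi
      rw [this]
      exact (le_sup_right : AddSubgroup.zmultiples i ≤ S) (AddSubgroup.mem_zmultiples i)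
    have h9' : Nat.card S = 9 := by
      have hle9 : Nat.card S ≤ 9 := Nat.le_of_dvd (by norm_num) hd
      have hpos : 0 < Nat.card S := Nat.card_pos
      obtain ⟨k, hk⟩ := h3d
      have : k = 1 ∨ k = 2 ∨ k = 3 := by omega
      rcases this with rfl | rfl | rfl
      · omega
      · rw [hk] at hd; omega
      · omega
    apply AddSubgroup.eq_top_of_card_eq
    rw [h9', Nat.card_eq_fintype_card, h9]
  have hdec : ∀ x : F, ∃ m n : ℤ, x = m • (1 : F) + n • i := by
    intro x
    have hx : x ∈ S := by rw [hS]; trivial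
    obtain ⟨y, hy, z, hz, rfl⟩ := AddSubgroup.mem_sup.1 hx
    obtain ⟨m, rfl⟩ := AddSubgroup.mem_zmultiples_iff.1 hy
    obtain ⟨n, rfl⟩ := AddSubgroup.mem_zmultiples_iff.1 hz
    exact ⟨m, n, rfl⟩
  refine ⟨β 1 i, ?_, ?_⟩
  · have h := hφ 3 1 i
    have h0 : ((3 : ℤ) • (1 : F)) = 0 := by
      rw [zsmul_eq_mul, mul_one]; exact_mod_cast h3
    rw [h0] at h
    have hz : β 0 i = 1 := pair_zero_left β hl i
    rw [hz] at h
    have : β 1 i ^ (3 : ℤ) = β 1 i ^ (3 : ℕ) := by norm_cast
    rw [← this]; exact h.symm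
  · have h1 : ∀ b, β 1 b ∈ Subgroup.zpowers (β 1 i) := by
      intro b
      obtain ⟨m, n, rfl⟩ := hdec b
      rw [hr, hψ, hψ, halt, _root_.one_zpow, one_mul]
      exact zpow_mem (Subgroup.mem_zpowers _) n
    have h2 : ∀ b, β i b ∈ Subgroup.zpowers (β 1 i) := by
      intro b
      obtain ⟨m, n, rfl⟩ := hdec b
      rw [hr, hψ, hψ, halt, _root_.one_zpow, mul_one, hanti i 1]
      exact zpow_mem (inv_mem (Subgroup.mem_zpowers _)) m
    intro a b
    obtain ⟨m, n, rfl⟩ := hdec a
    rw [hl, hφ, hφ]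
    exact mul_mem (zpow_mem (h1 b) m) (zpow_mem (h2 b) n)

end pairing9

section transfer

variable {Γ : Type*} [Group Γ]

/-- transfer into `H / H'`: central elements of the commutator subgroup have `|Γ : H|`-th power in any
subgroup containing the commutators of `H` -/
theorem pow_index_mem_of_commutator_le [Finite Γ] (H K : Subgroup Γ)
    (hK : ∀ x ∈ H, ∀ y ∈ H, ⁅x, y⁆ ∈ K) (a : Γ) (hac : a ∈ Subgroup.center Γ)
    (had : a ∈ commutator Γ) : a ^ H.index ∈ K := by
  classical
  have key : ∀ (k : ℕ) (g₀ : Γ), g₀⁻¹ * a ^ k * g₀ ∈ H → g₀⁻¹ * a ^ k * g₀ = a ^ k := by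
    intro k g₀ _
    have := Subgroup.mem_center_iff.1 (pow_mem hac k) g₀
    rw [mul_assoc, ← this, inv_mul_cancel_left]
  have h2 := MonoidHom.transfer_eq_pow (Abelianization.of : H →* Abelianization H) a key
  have h3 : MonoidHom.transfer (Abelianization.of : H →* Abelianization H) a = 1 := by
    have h4 : a ∈ (MonoidHom.transfer (Abelianization.of : H →* Abelianization H)).ker :=
      Abelianization.commutator_subset_ker _ had
    exact MonoidHom.mem_ker.1 h4
  rw [h3] at h2
  have h5 : (⟨a ^ H.index, MonoidHom.transfer_eq_pow_aux a key⟩ : H) ∈ commutator H :=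
    (QuotientGroup.eq_one_iff _).1 h2.symm
  have hle : commutator H ≤ K.subgroupOf H := by
    rw [commutator_def, Subgroup.commutator_le]
    intro g₁ _ g₂ _
    rw [Subgroup.mem_subgroupOf]
    exact hK g₁ g₁.2 g₂ g₂.2
  exact Subgroup.mem_subgroupOf.1 (hle h5)

end transfer

section main9

variable {F : Type*} [Field F] [Fintype F]

/-- prime divisors of the orders of kernel elements of a stem extension of `SL₂(q)` are the
characteristic -/
theorem prime_dvd_orderOf_ker (p : ℕ) [Fact p.Prime] [CharP F p]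
    {Γ : Type*} [Group Γ] [Finite Γ] (σ : Γ →* Matrix.SpecialLinearGroup (Fin 2) F)
    (hσ : IsStemExtension σ) (a : Γ) (ha : a ∈ σ.ker) (r : ℕ) (hr : r.Prime)
    (hra : r ∣ orderOf a) : r = p := by
  classical
  haveI : Fact r.Prime := ⟨hr⟩
  obtain ⟨n, hp, hn⟩ := FiniteField.card F p
  by_contra hrp
  let R : Sylow r (Matrix.SpecialLinearGroup (Fin 2) F) := default
  obtain ⟨hh, hhk⟩ := exists_injective_pow_to_mult (R : Subgroup _) σ hσ
  have htr : ∀ x : fcMult (R : Subgroup (Matrix.SpecialLinearGroup (Fin 2) F)), x = 1 := by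
    by_cases hr2 : r = 2
    · subst hr2
      have hodd : Odd (Fintype.card F) := by
        rw [hn]
        apply Odd.pow
        exact hp.odd_of_ne_two (fun h => hrp h.symm)
      obtain ⟨k, hk, ⟨e⟩⟩ := Cfsg.Agent.S0261.result hodd R
      haveI : NeZero (2 ^ k) := ⟨pow_ne_zero _ (by norm_num)⟩
      have hle := Cfsg.Agent.H9.MultPSL32.card_fcMult_le_of_mulEquiv e
      obtain ⟨e'⟩ := mult_equiv_of_hasSchurMultiplier (Cfsg.Agent.S3963.result (2 ^ k))
      have hc1 : Nat.card (fcMult (QuaternionGroup (2 ^ k))) = 1 := by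
        rw [← Nat.card_congr e'.toEquiv]
        simp
      rw [hc1] at hle
      haveI : Finite (fcMult (R : Subgroup (Matrix.SpecialLinearGroup (Fin 2) F))) :=
        fcMult_finite _
      have hc2 : Nat.card (fcMult (R : Subgroup (Matrix.SpecialLinearGroup (Fin 2) F))) = 1 :=
        le_antisymm hle Nat.card_pos
      intro x
      haveI := (Nat.card_eq_one_iff_unique.1 hc2).1
      exact Subsingleton.elim _ _
    · haveI : IsCyclic (R : Subgroup (Matrix.SpecialLinearGroup (Fin 2) F)) :=
        Cfsg.Agent.S0262.result p r hr2 hrp R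
      intro x
      exact Cfsg.Agent.H9.MultPSL32.fcMult_eq_one_of_isCyclic x
  have h1 : a ^ (R : Subgroup (Matrix.SpecialLinearGroup (Fin 2) F)).index = 1 :=
    (hhk ⟨a, ha⟩).1 (htr _)
  have h2 : r ∣ (R : Subgroup (Matrix.SpecialLinearGroup (Fin 2) F)).index :=
    hra.trans (orderOf_dvd_of_pow_eq_one h1)
  exact R.not_dvd_index h2

/-- **SL₂(9)**: kernels of finite stem extensions have order at most three -/
theorem card_ker_le_three (h9 : Fintype.card F = 9)
    {Γ : Type*} [Group Γ] [Finite Γ] (σ : Γ →* Matrix.SpecialLinearGroup (Fin 2) F)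
    (hσ : IsStemExtension σ) : Nat.card σ.ker ≤ 3 := by
  classical
  have hσ' := hσ
  obtain ⟨hsurj, hcen, hder⟩ := hσ
  -- characteristic three
  obtain ⟨p, hpc⟩ := CharP.exists F
  haveI := hpc
  haveI : Fact p.Prime := ⟨CharP.char_is_prime F p⟩
  obtain ⟨n, hp, hn⟩ := FiniteField.card F p
  have hp3 : p = 3 := by
    have h1 : p ∣ 3 ^ 2 := by
      have : p ∣ p ^ (n : ℕ) := dvd_pow_self p n.ne_zero
      rw [← hn, h9] at this
      exact this
    have h2 : p ∣ 3 := hp.dvd_of_dvd_pow h1
    exact (Nat.prime_dvd_prime_iff_eq hp (by norm_num)).1 h2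
  subst hp3
  let s : Matrix.SpecialLinearGroup (Fin 2) F → Γ := Function.surjInv hsurj
  have hs : ∀ x, σ (s x) = x := Function.surjInv_eq hsurj
  have hcc : ∀ a b : F, ⁅s (xel a), s (xel b)⁆ ∈ Subgroup.center Γ := by
    intro a b
    apply comm_mem_center σ hcen
    rw [hs, hs]; exact xel_comm a b
  letI : CommGroup (Subgroup.center Γ) := { (inferInstance : Group (Subgroup.center Γ)) with
    mul_comm := fun x y => Subtype.ext ((Subgroup.mem_center_iff.1 x.2 y.1).symm) }
  let β : F → F → Subgroup.center Γ := fun a b => ⟨⁅s (xel a), s (xel b)⁆, hcc a b⟩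
  have hl : ∀ a a' b, β (a + a') b = β a b * β a' b := by
    intro a a' b
    apply Subtype.ext
    show ⁅s (xel (a + a')), s (xel b)⁆ = ⁅s (xel a), s (xel b)⁆ * ⁅s (xel a'), s (xel b)⁆
    have h1 : ⁅s (xel (a + a')), s (xel b)⁆ = ⁅s (xel a') * s (xel a), s (xel b)⁆ := by
      apply comm_congr σ hcen
      · rw [map_mul, hs, hs, hs, ← xel_add, add_comm]
      · rfl
    rw [h1, comm_mul_left (hcc a b)]
  have hr : ∀ a b b', β a (b + b') = β a b * β a b' := by
    intro a b b'
    apply Subtype.ext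
    show ⁅s (xel a), s (xel (b + b'))⁆ = ⁅s (xel a), s (xel b)⁆ * ⁅s (xel a), s (xel b')⁆
    have h1 : ⁅s (xel a), s (xel (b + b'))⁆ = ⁅s (xel a), s (xel b) * s (xel b')⁆ := by
      apply comm_congr σ hcen
      · rfl
      · rw [map_mul, hs, hs, hs, ← xel_add]
    rw [h1, comm_mul_right (hcc a b')]
  have halt : ∀ a, β a a = 1 := by
    intro a
    apply Subtype.ext
    show ⁅s (xel a), s (xel a)⁆ = 1
    exact commutatorElement_self _
  obtain ⟨c, hc3, hcβ⟩ := pairing_cyclic β hl hr halt h9
  have hc3' : (c : Γ) ^ 3 = 1 := by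
    have := congrArg Subtype.val hc3
    simpa using this
  let K : Subgroup Γ := Subgroup.zpowers (c : Γ)
  have hβK : ∀ a b : F, ⁅s (xel a), s (xel b)⁆ ∈ K := by
    intro a b
    obtain ⟨m, hm⟩ := Subgroup.mem_zpowers_iff.1 (hcβ a b)
    have h1 := congrArg Subtype.val hm
    rw [Subgroup.coe_zpow] at h1
    exact Subgroup.mem_zpowers_iff.2 ⟨m, h1⟩
  -- the subgroup `H`
  let U₀ : Subgroup (Matrix.SpecialLinearGroup (Fin 2) F) := (xhom (F := F)).range
  let H : Subgroup Γ := U₀.comap σ
  have hHK : ∀ x ∈ H, ∀ y ∈ H, ⁅x, y⁆ ∈ K := by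
    intro x hx y hy
    obtain ⟨a', ha'⟩ := hx
    obtain ⟨b', hb'⟩ := hy
    have h1 : ⁅x, y⁆ = ⁅s (xel (Multiplicative.toAdd a')), s (xel (Multiplicative.toAdd b'))⁆ := by
      apply comm_congr σ hcen
      · rw [hs]; exact ha'.symm
      · rw [hs]; exact hb'.symm
    rw [h1]
    exact hβK _ _
  have hidx : H.index = 80 := by
    have h1 : H.index = U₀.index := Subgroup.index_comap_of_surjective U₀ hsurj
    rw [h1]
    have h2 : Nat.card U₀ = Fintype.card F := by
      have : Nat.card U₀ = Nat.card (Multiplicative F) := by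
        apply Nat.card_congr
        exact (Equiv.ofInjective (xhom (F := F)) (fun a b hab => by
          have := xel_injective (F := F) hab
          exact this)).symm
      rw [this, ← Nat.card_eq_fintype_card]
      exact Nat.card_congr Multiplicative.toAdd
    have h3 := U₀.card_mul_index
    rw [h2, Cfsg.Agent.S0262.card_sl_two, h9] at h3
    omega
  have hpow : ∀ a ∈ σ.ker, a ^ 80 ∈ K := by
    intro a ha
    have := pow_index_mem_of_commutator_le H K hHK a (hcen ha) (hder ha)
    rwa [hidx] at this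
  -- injectivity of the 80th power
  have hone : ∀ a ∈ σ.ker, a ^ 80 = 1 → a = 1 := by
    intro a ha h80
    by_contra hne
    have ho : orderOf a ≠ 1 := fun h => hne (orderOf_eq_one_iff.1 h)
    obtain ⟨r, hr, hra⟩ := Nat.exists_prime_and_dvd ho
    have hr3 : r = 3 := prime_dvd_orderOf_ker 3 σ hσ' a ha r hr hra
    subst hr3
    have : 3 ∣ 80 := hra.trans (orderOf_dvd_of_pow_eq_one h80)
    omega
  let f : σ.ker → K := fun a => ⟨(a : Γ) ^ 80, hpow a a.2⟩
  have hf : Function.Injective f := by
    intro a b hab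
    have h1 : (a : Γ) ^ 80 = (b : Γ) ^ 80 := congrArg Subtype.val hab
    have hcomm : Commute (a : Γ) ((b : Γ)⁻¹) :=
      (Subgroup.mem_center_iff.1 (hcen a.2) (b : Γ)⁻¹).symm
    have h2 : ((a : Γ) * (b : Γ)⁻¹) ^ 80 = 1 := by
      rw [hcomm.mul_pow, inv_pow, h1, mul_inv_cancel]
    have h3 := hone _ (σ.ker.mul_mem a.2 (σ.ker.inv_mem b.2)) h2
    exact Subtype.ext (mul_inv_eq_one.1 h3)
  have hK3 : Nat.card K ≤ 3 := by
    rw [Nat.card_zpowers]
    exact Nat.le_of_dvd (by norm_num) (orderOf_dvd_of_pow_eq_one hc3')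
  exact le_trans (Nat.card_le_card_of_injective f hf) hK3

end main9

end Cfsg.Agent.Lib.Helper5.MultSL2
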