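import Mathlib
import Cfsg.Prelude.Def_KGroupFacts

set_option autoImplicit false
set_option linter.style.haveILetI false
set_option linter.unusedSectionVars false

/-!
Pulling a central extension `π : E → Q` with kernel of order three generated by a commutator back
along a surjection `φ : G → Q` whose kernel has exponent two gives a stem extension of `G`.
-/

namespace Cfsg.Agent.Lib.Helper5.MultSL2

open Cfsg
open scoped commutatorElement

variable {E Q G : Type*} [Group E] [Group Q] [Group G] (π : E →* Q) (φ : G →* Q)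

/-- the pullback `E ×_Q G` -/
def pb : Subgroup (E × G) :=
  MonoidHom.eqLocus (π.comp (MonoidHom.fst E G)) (φ.comp (MonoidHom.snd E G))

theorem mem_pb (x : E × G) : x ∈ pb π φ ↔ π x.1 = φ x.2 := Iff.rfl

/-- the projection of the pullback to `G` -/
def pbSnd : pb π φ →* G := (MonoidHom.snd E G).comp (pb π φ).subtype

theorem pbSnd_apply (x : pb π φ) : pbSnd π φ x = x.1.2 := rfl

variable {π φ}

theorem pbSnd_surjective (hπ : Function.Surjective π) : Function.Surjective (pbSnd π φ) := by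
  intro g
  obtain ⟨e, he⟩ := hπ (φ g)
  exact ⟨⟨(e, g), he⟩, rfl⟩

theorem pbSnd_ker_fst (x : pb π φ) (hx : x ∈ (pbSnd π φ).ker) : x.1.1 ∈ π.ker := by
  have h1 : x.1.2 = 1 := hx
  have h2 : π x.1.1 = φ x.1.2 := x.2
  rw [MonoidHom.mem_ker, h2, h1, map_one]

theorem pbSnd_ker_le_center (hcen : π.ker ≤ Subgroup.center E) :
    (pbSnd π φ).ker ≤ Subgroup.center (pb π φ) := by
  intro x hx
  have h1 : x.1.2 = 1 := hx
  have h2 := hcen (pbSnd_ker_fst x hx)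
  rw [Subgroup.mem_center_iff]
  intro y
  apply Subtype.ext
  apply Prod.ext
  · exact Subgroup.mem_center_iff.1 h2 y.1.1
  · show y.1.2 * x.1.2 = x.1.2 * y.1.2
    rw [h1, mul_one, one_mul]

theorem pbSnd_ker_le_commutator (hφ : Function.Surjective φ) (z₀ e₁ e₂ : E)
    (hz : ⁅e₁, e₂⁆ = z₀) (hz0 : z₀ ∈ π.ker) (hgen : ∀ z ∈ π.ker, z ∈ Subgroup.zpowers z₀)
    (hz3 : z₀ ^ 3 = 1) (hk : ∀ k ∈ φ.ker, k ^ 2 = 1) :
    (pbSnd π φ).ker ≤ commutator (pb π φ) := by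
  obtain ⟨g₁, hg₁⟩ := hφ (π e₁)
  obtain ⟨g₂, hg₂⟩ := hφ (π e₂)
  let y₁ : pb π φ := ⟨(e₁, g₁), hg₁.symm⟩
  let y₂ : pb π φ := ⟨(e₂, g₂), hg₂.symm⟩
  have hkk : ⁅g₁, g₂⁆ ∈ φ.ker := by
    rw [MonoidHom.mem_ker, map_commutatorElement, hg₁, hg₂, ← map_commutatorElement, hz]
    exact hz0
  have hc : ⁅y₁, y₂⁆ ∈ commutator (pb π φ) := by
    rw [commutator_def]
    exact Subgroup.commutator_mem_commutator (Subgroup.mem_top _) (Subgroup.mem_top _)
  have hval : ((⁅y₁, y₂⁆ : pb π φ) : E × G) = (z₀, ⁅g₁, g₂⁆) := by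
    rw [commutatorElement_def]
    show ((e₁, g₁) * (e₂, g₂) * (e₁, g₁)⁻¹ * (e₂, g₂)⁻¹ : E × G) = (z₀, ⁅g₁, g₂⁆)
    rw [← hz, commutatorElement_def, commutatorElement_def]
    rfl
  have h4 : ((⁅y₁, y₂⁆ ^ 4 : pb π φ) : E × G) = (z₀, 1) := by
    rw [Subgroup.coe_pow, hval]
    apply Prod.ext
    · show z₀ ^ 4 = z₀
      rw [pow_succ, hz3, one_mul]
    · show ⁅g₁, g₂⁆ ^ 4 = 1
      have : ⁅g₁, g₂⁆ ^ 4 = (⁅g₁, g₂⁆ ^ 2) ^ 2 := by rw [← pow_mul]
      rw [this, hk _ hkk, one_pow]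
  intro x hx
  have h1 : x.1.2 = 1 := hx
  obtain ⟨n, hn⟩ := Subgroup.mem_zpowers_iff.1 (hgen _ (pbSnd_ker_fst x hx))
  have hx' : x = (⁅y₁, y₂⁆ ^ 4) ^ n := by
    apply Subtype.ext
    rw [Subgroup.coe_zpow, h4]
    apply Prod.ext
    · show x.1.1 = ((z₀, (1 : G)) ^ n).1
      rw [Prod.pow_fst, hn]
    · show x.1.2 = ((z₀, (1 : G)) ^ n).2
      rw [Prod.pow_snd, h1, one_zpow]
  rw [hx']
  exact zpow_mem (pow_mem hc 4) n

/-- **the pullback is a stem extension** -/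
theorem pb_isStem (hπ : Function.Surjective π) (hcen : π.ker ≤ Subgroup.center E)
    (hφ : Function.Surjective φ) (z₀ e₁ e₂ : E)
    (hz : ⁅e₁, e₂⁆ = z₀) (hz0 : z₀ ∈ π.ker) (hgen : ∀ z ∈ π.ker, z ∈ Subgroup.zpowers z₀)
    (hz3 : z₀ ^ 3 = 1) (hk : ∀ k ∈ φ.ker, k ^ 2 = 1) :
    IsStemExtension (pbSnd π φ) :=
  ⟨pbSnd_surjective hπ, pbSnd_ker_le_center hcen,
    pbSnd_ker_le_commutator hφ z₀ e₁ e₂ hz hz0 hgen hz3 hk⟩

/-- the kernel of the pullback projection is the kernel of `π` -/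
noncomputable def pbKerEquiv : (pbSnd π φ).ker ≃ π.ker where
  toFun x := ⟨x.1.1.1, pbSnd_ker_fst x.1 x.2⟩
  invFun z := ⟨⟨(z.1, 1), by
    show π z.1 = φ 1
    rw [map_one]; exact z.2⟩, rfl⟩
  left_inv x := by
    apply Subtype.ext
    apply Subtype.ext
    apply Prod.ext
    · rfl
    · have h1 : x.1.1.2 = 1 := x.2
      exact h1.symm
  right_inv z := rfl

end Cfsg.Agent.Lib.Helper5.MultSL2
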