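import Mathlib
import Cfsg.Agent.Lib.Helper5.MultSL2.Nine
import Cfsg.Agent.Lib.Helper5.MultSL2.HexCover
import Cfsg.Agent.Lib.Helper5.MultSL2.Pullback
import Cfsg.Agent.S0254
import Cfsg.Agent.S0243

set_option autoImplicit false
set_option linter.style.haveILetI false
set_option linter.unusedSectionVars false

/-!
The Schur multiplier of `SL₂(9)` is cyclic of order three: the cover `3·SL₂(9)` is the pullback of
`3·A₆ → A₆` (monomial automorphisms of the hexacode) along `SL₂(9) → PSL₂(9) ≅ A₆`.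
-/

namespace Cfsg.Agent.Lib.Helper5.MultSL2

open Cfsg Cfsg.Agent.H1 Matrix
open scoped commutatorElement

variable {F : Type*} [Field F] [Fintype F]

theorem card_ker_piE : Nat.card piE.ker = 3 := by
  haveI : Fact (Nat.Prime 3) := ⟨by norm_num⟩
  have h1 : piE.ker = Subgroup.zpowers z0 :=
    le_antisymm ker_piE_le ((Subgroup.zpowers_le).2 z0_mem_ker)
  rw [h1, Nat.card_zpowers]
  exact orderOf_eq_prime z0_pow_three z0_ne_one

theorem hasCyclicSchurMultiplier_three (hF : Fintype.card F = 9) :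
    HasCyclicSchurMultiplier (Matrix.SpecialLinearGroup (Fin 2) F) 3 := by
  classical
  obtain ⟨e⟩ := Cfsg.Agent.S0254.result hF
  let φ : Matrix.SpecialLinearGroup (Fin 2) F →* alternatingGroup (Fin 6) :=
    e.toMonoidHom.comp (QuotientGroup.mk' (Subgroup.center (Matrix.SpecialLinearGroup (Fin 2) F)))
  have hφs : Function.Surjective φ := e.surjective.comp (QuotientGroup.mk'_surjective _)
  have hker : φ.ker = Subgroup.center (Matrix.SpecialLinearGroup (Fin 2) F) := by
    ext x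
    simp [φ]
  have hφk : ∀ k ∈ φ.ker, k ^ 2 = 1 := by
    intro k hk
    rw [hker] at hk
    have hc : Nat.card (Subgroup.center (Matrix.SpecialLinearGroup (Fin 2) F)) = 2 := by
      rw [Cfsg.Agent.S0243.card_center_sl 2 (by norm_num), hF]
      rfl
    have h1 : (⟨k, hk⟩ : Subgroup.center (Matrix.SpecialLinearGroup (Fin 2) F)) ^ 2 = 1 := by
      have h0 : (⟨k, hk⟩ : Subgroup.center (Matrix.SpecialLinearGroup (Fin 2) F)) ^
          Nat.card (Subgroup.center (Matrix.SpecialLinearGroup (Fin 2) F)) = 1 := pow_card_eq_one'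
      rwa [hc] at h0
    exact congrArg Subtype.val h1
  have hstem : IsStemExtension (pbSnd piE φ) :=
    pb_isStem piE_surjective ker_piE_le_center hφs z0 ⟨e1, e1_mem⟩ ⟨e2, e2_mem⟩ z0_comm
      z0_mem_ker ker_piE_le z0_pow_three hφk
  have hcard : Nat.card (pbSnd piE φ).ker = 3 := by
    rw [Nat.card_congr (pbKerEquiv (π := piE) (φ := φ)), card_ker_piE]
  obtain ⟨Γ, hΓ, hΓf, σ, hσ, ⟨eσ⟩⟩ :=
    exists_schur_cover (Matrix.SpecialLinearGroup (Fin 2) F)
  haveI : Finite (fcMult (Matrix.SpecialLinearGroup (Fin 2) F)) := fcMult_finite _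
  have hle : Nat.card (fcMult (Matrix.SpecialLinearGroup (Fin 2) F)) ≤ 3 := by
    rw [← Nat.card_congr eσ.toEquiv]
    exact card_ker_le_three hF σ hσ
  have hge : 3 ≤ Nat.card (fcMult (Matrix.SpecialLinearGroup (Fin 2) F)) := by
    obtain ⟨f, hf⟩ := exists_surjective_mult_to_ker (pbSnd piE φ) hstem
    calc 3 = Nat.card (pbSnd piE φ).ker := hcard.symm
      _ ≤ Nat.card (fcMult (Matrix.SpecialLinearGroup (Fin 2) F)) :=
        Nat.card_le_card_of_surjective f hf
  have hc3 : Nat.card (fcMult (Matrix.SpecialLinearGroup (Fin 2) F)) = 3 := le_antisymm hle hge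
  haveI : Fact (Nat.Prime 3) := ⟨by norm_num⟩
  have hcyc : IsCyclic (fcMult (Matrix.SpecialLinearGroup (Fin 2) F)) := isCyclic_of_prime_card hc3
  have e3 := zmodCyclicMulEquiv hcyc
  rw [hc3] at e3
  refine ⟨⟨Γ, hΓ, hΓf, σ, hσ, ⟨eσ.trans e3.symm⟩⟩, ?_⟩
  intro Δ _ _ τ hτ
  obtain ⟨f, hf⟩ := exists_surjective_mult_to_ker τ hτ
  exact ⟨f.comp e3.toMonoidHom, hf.comp e3.surjective⟩

end Cfsg.Agent.Lib.Helper5.MultSL2
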